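import Cfsg.Prelude.Def_CaseTheorems
import Cfsg.Prelude.Def_Transfer
import Cfsg.Agent.Lib.PGroups.Frattini
import Cfsg.Agent.Lib.PGroups.Omega

/-!
# Sectional rank
-/

set_option autoImplicit false

namespace Cfsg.Agent.Lib.SectionalRank

open Subgroup
open scoped commutatorElement

variable {S : Type*} [Group S] {p k : ℕ}

/-- An elementary abelian section has order at most `p ^ k`. -/
theorem card_le (hr : Cfsg.SectionalPRankLE p k S) (H : Subgroup S) {K : Type*} [Group K]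
    (f : H →* K) (A : Subgroup K) (hA : A ≤ f.range) (hAe : Cfsg.IsElementaryAbelian p A) :
    Nat.card A ≤ p ^ k := by
  let ι : H ⧸ f.ker →* K := QuotientGroup.kerLift f
  have hι : Function.Injective ι := QuotientGroup.kerLift_injective f
  have hAr : A ≤ ι.range := hA.trans (by
    rintro x ⟨h, rfl⟩
    exact ⟨QuotientGroup.mk h, QuotientGroup.kerLift_mk f h⟩)
  have hmap : (A.comap ι).map ι = A := map_comap_eq_self hAr
  rw [← hmap, ← Nat.card_congr ((A.comap ι).equivMapOfInjective ι hι).toEquiv]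
  refine hr H f.ker (A.comap ι) ⟨⟨fun a b => Subtype.ext (hι ?_)⟩⟩ (fun a ha => hι ?_)
  · rw [Subgroup.coe_mul, Subgroup.coe_mul, map_mul, map_mul]
    exact Subtype.ext_iff.1 (hAe.1.1.comm ⟨ι a, a.2⟩ ⟨ι b, b.2⟩)
  · rw [map_pow, map_one]
    exact hAe.2 _ ha

theorem of_injective {T : Type*} [Group T] (hr : Cfsg.SectionalPRankLE p k S) (f : T →* S)
    (hf : Function.Injective f) : Cfsg.SectionalPRankLE p k T := by
  intro H N _ A hAc hAp
  have e := H.equivMapOfInjective f hf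
  refine card_le hr (H.map f) ((QuotientGroup.mk' N).comp e.symm.toMonoidHom) A ?_ ⟨hAc, hAp⟩
  intro x _
  obtain ⟨h, rfl⟩ := QuotientGroup.mk_surjective x
  exact ⟨e h, by simp⟩

theorem subgroup (hr : Cfsg.SectionalPRankLE p k S) (T : Subgroup S) :
    Cfsg.SectionalPRankLE p k T :=
  of_injective hr T.subtype T.subtype_injective

/-- A non-cyclic `p`-group has Frattini factor of order at least `p ^ 2`. -/
theorem sq_le_card_frattini_quotient [Finite S] [hp : Fact p.Prime] (hS : IsPGroup p S)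
    (hc : ¬ IsCyclic S) : p ^ 2 ≤ Nat.card (S ⧸ frattini S) := by
  have hF : IsPGroup p (S ⧸ frattini S) := hS.to_quotient _
  obtain ⟨n, hn⟩ := IsPGroup.iff_card.1 hF
  rw [hn]
  refine Nat.pow_le_pow_right hp.out.pos ?_
  by_contra hlt
  apply hc
  have : IsCyclic (S ⧸ frattini S) := by
    rcases Nat.lt_or_ge n 1 with h | h
    · have : Subsingleton (S ⧸ frattini S) :=
        (Nat.card_eq_one_iff_unique.1 (by rw [hn, Nat.lt_one_iff.1 h, pow_zero])).1
      infer_instance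
    · exact isCyclic_of_prime_card (by rw [hn, show n = 1 by omega, pow_one])
  exact Cfsg.Agent.Lib.PGroups.isCyclic_of_quotient_le_frattini _ le_rfl

theorem not_isCyclic_of_not_comm {T : Type*} [Group T] (h : ¬ IsMulCommutative T) :
    ¬ IsCyclic T := fun hc => h inferInstance

/-- In `P × Q` with `Q` a non-cyclic `p`-group, `P` has sectional rank two less. -/
theorem left_of_prod {P Q : Type*} [Group P] [Group Q] [Finite P] [Finite Q] [Fact p.Prime]
    (hr : Cfsg.SectionalPRankLE p k (P × Q)) (hQ : IsPGroup p Q) (hc : ¬ IsCyclic Q) :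
    Cfsg.SectionalPRankLE p (k - 2) P := by
  intro H N _ A hAc hAp
  obtain ⟨hFc, hFp⟩ := Cfsg.Agent.Lib.PGroups.frattiniQuotient_elemAb hQ
  let f : (H.prod (⊤ : Subgroup Q)) →* (H ⧸ N) × (Q ⧸ frattini Q) :=
    MonoidHom.prod
      ((QuotientGroup.mk' N).comp
        { toFun := fun x => ⟨x.1.1, (mem_prod.1 x.2).1⟩
          map_one' := rfl
          map_mul' := fun _ _ => rfl })
      ((QuotientGroup.mk' (frattini Q)).comp
        ((MonoidHom.snd P Q).comp (H.prod (⊤ : Subgroup Q)).subtype))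
  have h1 := card_le hr _ f (A.prod ⊤) (fun x _ => by
    obtain ⟨a, ha⟩ := QuotientGroup.mk_surjective x.1
    obtain ⟨b, hb⟩ := QuotientGroup.mk_surjective x.2
    exact ⟨⟨(a.1, b), mem_prod.2 ⟨a.2, trivial⟩⟩, Prod.ext ha hb⟩)
    ⟨⟨⟨fun a b => Subtype.ext (Prod.ext
        (Subtype.ext_iff.1 (hAc.1.comm ⟨a.1.1, (mem_prod.1 a.2).1⟩ ⟨b.1.1, (mem_prod.1 b.2).1⟩))
        (Subtype.ext_iff.1 (hFc.1.comm ⟨a.1.2, trivial⟩ ⟨b.1.2, trivial⟩)))⟩⟩,
      fun a ha => Prod.ext (hAp a.1 (mem_prod.1 ha).1) (hFp a.2 trivial)⟩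
  rw [Nat.card_congr (A.prodEquiv ⊤).toEquiv, Nat.card_prod,
    Nat.card_congr (Subgroup.topEquiv (G := Q ⧸ frattini Q)).toEquiv] at h1
  have h2 := sq_le_card_frattini_quotient hQ hc
  have hp := (Fact.out : p.Prime).one_lt
  have hk : 2 ≤ k := by
    by_contra hk
    have h3 : p ^ k < p ^ 2 := Nat.pow_lt_pow_right hp (by omega)
    have h4 : 0 < Nat.card A := Nat.card_pos
    nlinarith
  calc Nat.card A ≤ p ^ k / p ^ 2 := by
        rw [Nat.le_div_iff_mul_le (by positivity)]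
        exact le_trans (Nat.mul_le_mul_left _ h2) h1
    _ = p ^ (k - 2) := Nat.pow_div hk (by omega)

/-! ## Commuting normal subgroups with centre of order two -/

theorem mem_map_center_iff {P : Subgroup S} {x : S} :
    x ∈ (center P).map P.subtype ↔ x ∈ P ∧ ∀ y ∈ P, x * y = y * x := by
  constructor
  · rintro ⟨u, hu, rfl⟩
    exact ⟨u.2, fun y hy => Subtype.ext_iff.1 (mem_center_iff.1 hu ⟨y, hy⟩).symm⟩
  · rintro ⟨hx, h⟩
    exact ⟨⟨x, hx⟩, mem_center_iff.2 fun y => Subtype.ext (h y y.2).symm, rfl⟩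

theorem exists_center_eq_pair [Finite S] {P : Subgroup S} (h : Nat.card (center P) = 2) :
    ∃ z : S, z ≠ 1 ∧ z * z = 1 ∧ z ∈ P ∧ (∀ y ∈ P, z * y = y * z) ∧
      ∀ x ∈ P, (∀ y ∈ P, x * y = y * x) → x = 1 ∨ x = z := by
  obtain ⟨a, b, hab, huniv⟩ := Nat.card_eq_two_iff.1 h
  have hall : ∀ u : center P, u = a ∨ u = b := fun u => by
    have := huniv.symm ▸ Set.mem_univ u
    simpa using this
  obtain ⟨z, hz, hzu⟩ : ∃ z : center P, z ≠ 1 ∧ ∀ u : center P, u = 1 ∨ u = z := by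
    rcases hall 1 with h1 | h1
    · exact ⟨b, fun hb => hab (h1 ▸ hb.symm ▸ rfl), fun u => h1 ▸ hall u⟩
    · exact ⟨a, fun ha => hab (h1 ▸ ha ▸ rfl), fun u => h1 ▸ (hall u).symm⟩
  have hz2 : z * z = 1 := (hzu (z * z)).resolve_right fun h2 => hz (mul_eq_left.1 h2)
  have hzc : ((z : P) : S) ∈ P ∧ ∀ y ∈ P, ((z : P) : S) * y = y * ((z : P) : S) :=
    (mem_map_center_iff (x := ((z : P) : S))).1 ⟨(z : P), z.2, rfl⟩
  refine ⟨z, fun h1 => hz (Subtype.ext (Subtype.ext h1)),
    congrArg (fun u : center P => ((u : P) : S)) hz2, hzc.1, hzc.2, fun x hx hxc => ?_⟩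
  obtain ⟨u, hu, rfl⟩ := (mem_map_center_iff (x := x)).2 ⟨hx, hxc⟩
  rcases hzu ⟨u, hu⟩ with h1 | h1
  · exact Or.inl (congrArg (fun u : center P => ((u : P) : S)) h1)
  · exact Or.inr (congrArg (fun u : center P => ((u : P) : S)) h1)

theorem not_isCyclic_of_centre_two {P : Subgroup S} (hP : ¬ IsMulCommutative P) :
    ¬ IsCyclic P :=
  not_isCyclic_of_not_comm hP

theorem center_le_frattini [Finite S] [Fact p.Prime] {P : Subgroup S} (hP : IsPGroup p P)
    (hna : ¬ IsMulCommutative P) (hz : Nat.card (center P) = p) : center P ≤ frattini P := by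
  have hne : commutator P ≠ ⊥ := fun h => hna ⟨⟨fun a b => by
    have : ⁅a, b⁆ = 1 := by
      rw [← Subgroup.mem_bot, ← h, commutator_def]
      exact commutator_mem_commutator (mem_top a) (mem_top b)
    exact commutatorElement_eq_one_iff_mul_comm.1 this⟩⟩
  have h1 : commutator P ⊓ center P ≠ ⊥ :=
    Cfsg.Agent.Lib.PGroups.normal_inf_center_ne_bot hP _ hne
  have h2 : commutator P ⊓ center P = center P := by
    refine eq_of_le_of_card_ge inf_le_right ?_
    have h3 := card_dvd_of_le (inf_le_right : commutator P ⊓ center P ≤ center P)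
    rw [hz] at h3 ⊢
    rcases (Nat.dvd_prime Fact.out).1 h3 with h4 | h4
    · exact absurd (card_eq_one.1 h4) h1
    · exact h4.ge
  calc center P = commutator P ⊓ center P := h2.symm
    _ ≤ commutator P := inf_le_left
    _ ≤ frattini P := Cfsg.Agent.Lib.PGroups.commutator_le_frattini hP

theorem card_dvd_four_le [Finite S] {P : Subgroup S} (hP : IsPGroup 2 P)
    (hna : ¬ IsMulCommutative P) : 4 ≤ Nat.card (P ⧸ frattini P) := by
  have := Fact.mk Nat.prime_two
  exact sq_le_card_frattini_quotient hP (not_isCyclic_of_not_comm hna)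

/-- Two normal nonabelian subgroups with distinct centres of order two. -/
theorem disjoint_commute [Finite S] (h2 : IsPGroup 2 S) (P Q : Subgroup S) [P.Normal] [Q.Normal]
    (hZP : Nat.card (center P) = 2) (hZQ : Nat.card (center Q) = 2)
    (hne : (center P).map P.subtype ≠ (center Q).map Q.subtype) :
    P ⊓ Q = ⊥ ∧ ∀ x ∈ P, ∀ y ∈ Q, x * y = y * x := by
  have := Fact.mk Nat.prime_two
  obtain ⟨z, hz1, -, hzP, hzc, hzu⟩ := exists_center_eq_pair hZP
  obtain ⟨w, hw1, -, hwQ, hwc, hwu⟩ := exists_center_eq_pair hZQ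
  have hzw : z ≠ w := fun h => hne (by
    ext x
    rw [mem_map_center_iff, mem_map_center_iff]
    constructor
    · rintro ⟨hx, hxc⟩
      rcases hzu x hx hxc with rfl | rfl
      · exact ⟨one_mem _, fun y _ => by simp⟩
      · exact h ▸ ⟨hwQ, hwc⟩
    · rintro ⟨hx, hxc⟩
      rcases hwu x hx hxc with rfl | rfl
      · exact ⟨one_mem _, fun y _ => by simp⟩
      · exact h ▸ ⟨hzP, hzc⟩)
  have hinf : P ⊓ Q = ⊥ := by
    by_contra hne'
    have h3 := Cfsg.Agent.Lib.PGroups.normal_inf_center_ne_bot h2 (P ⊓ Q) hne'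
    obtain ⟨x, hx, hx1⟩ := ((P ⊓ Q ⊓ center S).bot_or_exists_ne_one).resolve_left h3
    obtain ⟨⟨hxP, hxQ⟩, hxc⟩ := hx
    have e1 := (hzu x hxP fun y _ => (mem_center_iff.1 hxc y).symm).resolve_left hx1
    have e2 := (hwu x hxQ fun y _ => (mem_center_iff.1 hxc y).symm).resolve_left hx1
    exact hzw (e1.symm.trans e2)
  exact ⟨hinf, fun x hx y hy => commute_of_normal_of_disjoint P Q inferInstance inferInstance
    (disjoint_iff.2 hinf) x y hx hy⟩

/-- In sectional rank at most four two such subgroups have centralizer inside their product. -/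
theorem centralizer_le_sup [Finite S] (h2 : IsPGroup 2 S) (hr : Cfsg.SectionalPRankLE 2 4 S)
    (P Q : Subgroup S) [P.Normal] [Q.Normal] (hP : ¬ IsMulCommutative P)
    (hQ : ¬ IsMulCommutative Q)
    (hZP : Nat.card (center P) = 2) (hZQ : Nat.card (center Q) = 2)
    (hinf : P ⊓ Q = ⊥) (hcomm : ∀ x ∈ P, ∀ y ∈ Q, x * y = y * x) :
    centralizer ((P ⊔ Q : Subgroup S) : Set S) ≤ P ⊔ Q := by
  have := Fact.mk Nat.prime_two
  set C := centralizer ((P ⊔ Q : Subgroup S) : Set S) with hC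
  by_contra hle
  have hP2 : IsPGroup 2 P := h2.to_subgroup _
  have hQ2 : IsPGroup 2 Q := h2.to_subgroup _
  -- an element of `C` outside `P ⊔ Q` whose square is inside
  obtain ⟨c₀, hc₀C, hc₀⟩ := SetLike.not_le_iff_exists.1 hle
  obtain ⟨c, hcC, hcn, hc2⟩ : ∃ c ∈ C, c ∉ P ⊔ Q ∧ c * c ∈ P ⊔ Q := by
    obtain ⟨j, hj⟩ := h2 c₀
    induction j generalizing c₀ with
    | zero => simp at hj; exact absurd (hj ▸ one_mem _) hc₀
    | succ j ih =>
      by_cases h : c₀ * c₀ ∈ P ⊔ Q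
      · exact ⟨c₀, hc₀C, hc₀, h⟩
      · exact ih (c₀ * c₀) (mul_mem hc₀C hc₀C) h (by rw [← sq, ← pow_mul, ← pow_succ']; exact hj)
  -- the multiplication map
  have hPc : ∀ x ∈ P, c * x = x * c := fun x hx =>
    ((mem_centralizer_iff.1 hcC) x (mem_sup_left hx)).symm
  have hQc : ∀ x ∈ Q, c * x = x * c := fun x hx =>
    ((mem_centralizer_iff.1 hcC) x (mem_sup_right hx)).symm
  let μ : P × Q →* S := MonoidHom.noncommCoprod P.subtype Q.subtype fun a b => hcomm a a.2 b b.2
  have hμ : μ.range = P ⊔ Q := by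
    exact (MonoidHom.noncommCoprod_range _ _ _).trans (by rw [range_subtype, range_subtype])
  let N : Subgroup S := (frattini P).map P.subtype ⊔ (frattini Q).map Q.subtype
  have hNn : N.Normal := sup_normal _ _
  -- the kernel of the map to `S / N`
  have hker : ∀ a : P, ∀ b : Q, (a : S) * b ∈ N → a ∈ frattini P ∧ b ∈ frattini Q := by
    intro a b hab
    obtain ⟨u, hu, v, hv, huv⟩ := mem_sup_of_normal_left.1 hab
    obtain ⟨u, hu', rfl⟩ := hu
    obtain ⟨v, hv', rfl⟩ := hv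
    have h1 : (u : S)⁻¹ * a = v * (b : S)⁻¹ := by
      rw [inv_mul_eq_iff_eq_mul, ← mul_assoc, eq_mul_inv_iff_mul_eq]
      exact huv.symm
    have h3 : (u : S)⁻¹ * a ∈ P ⊓ Q :=
      mem_inf.2 ⟨P.mul_mem (P.inv_mem u.2) a.2, h1 ▸ Q.mul_mem v.2 (Q.inv_mem b.2)⟩
    rw [hinf, mem_bot] at h3
    have e1 : u = a := Subtype.ext (inv_mul_eq_one.1 h3)
    have e2 : v = b := Subtype.ext (mul_inv_eq_one.1 (h1 ▸ h3))
    exact ⟨e1 ▸ hu', e2 ▸ hv'⟩
  -- `c * c` lies in `N`
  have hc2N : c * c ∈ N := by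
    rw [← hμ] at hc2
    obtain ⟨⟨a, b⟩, hab⟩ := hc2
    have hab' : (a : S) * b = c * c := hab
    have haZ : a ∈ center P := mem_center_iff.2 fun y => Subtype.ext (by
      have hyb : (y : S) * b = b * y := hcomm y y.2 b b.2
      have hyc : (c * c) * (y : S) = y * (c * c) := by
        rw [mul_assoc, hPc y y.2, ← mul_assoc, hPc y y.2, mul_assoc]
      rw [← hab', mul_assoc, ← hyb, ← mul_assoc, ← mul_assoc] at hyc
      exact (mul_right_cancel hyc).symm)
    have hbZ : b ∈ center Q := mem_center_iff.2 fun y => Subtype.ext (by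
      have hya : (a : S) * y = y * a := hcomm a a.2 y y.2
      have hyc : (c * c) * (y : S) = y * (c * c) := by
        rw [mul_assoc, hQc y y.2, ← mul_assoc, hQc y y.2, mul_assoc]
      rw [← hab', ← mul_assoc (y : S), ← hya, mul_assoc, mul_assoc] at hyc
      exact (mul_left_cancel hyc).symm)
    rw [← hab']
    exact mul_mem (mem_sup_left ⟨a, center_le_frattini hP2 hP hZP haZ, rfl⟩)
      (mem_sup_right ⟨b, center_le_frattini hQ2 hQ hZQ hbZ, rfl⟩)
  -- the section
  let H : Subgroup S := P ⊔ Q ⊔ zpowers c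
  let f : H →* S ⧸ N := (QuotientGroup.mk' N).comp H.subtype
  let π := QuotientGroup.mk' N
  let A := H.map π
  have hfr : ∀ (R : Subgroup S) [R.Normal], IsPGroup 2 R → (frattini R).map R.subtype ≤ N →
      Cfsg.IsElementaryAbelian 2 (R.map π) := fun R _ hR hle' => by
    refine Cfsg.Agent.Lib.PGroups.elemAb_mk ?_ ?_
    · rintro _ ⟨x, hx, rfl⟩ _ ⟨y, hy, rfl⟩
      rw [← commutatorElement_eq_one_iff_mul_comm, ← map_commutatorElement,
        QuotientGroup.mk'_apply, QuotientGroup.eq_one_iff]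
      exact hle' ⟨⁅⟨x, hx⟩, ⟨y, hy⟩⁆,
        Cfsg.Agent.Lib.PGroups.commutatorElement_mem_frattini hR _ _, rfl⟩
    · rintro _ ⟨x, hx, rfl⟩
      rw [← map_pow, QuotientGroup.mk'_apply, QuotientGroup.eq_one_iff]
      exact hle' ⟨⟨x, hx⟩ ^ 2, Cfsg.Agent.Lib.PGroups.pow_mem_frattini hR _, rfl⟩
  have hA : Cfsg.IsElementaryAbelian 2 A := by
    simp only [A, H, Subgroup.map_sup, MonoidHom.map_zpowers]
    refine Cfsg.Agent.Lib.PGroups.elemAb_sup (Cfsg.Agent.Lib.PGroups.elemAb_sup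
      (hfr P hP2 le_sup_left) (hfr Q hQ2 le_sup_right) ?_)
      (Cfsg.Agent.Lib.PGroups.elemAb_zpowers ?_) ?_
    · rintro _ ⟨x, hx, rfl⟩ _ ⟨y, hy, rfl⟩
      rw [← map_mul, ← map_mul, hcomm x hx y hy]
    · rw [← map_pow, QuotientGroup.mk'_apply, QuotientGroup.eq_one_iff, sq]
      exact hc2N
    · intro x hx y hy
      obtain ⟨n, rfl⟩ := mem_zpowers_iff.1 hy
      rw [← Subgroup.map_sup] at hx
      obtain ⟨x, hx, rfl⟩ := hx
      refine (Commute.zpow_right ?_ n).eq
      exact (Commute.map (mem_centralizer_iff.1 hcC x hx : Commute x c) π)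
  have hAf : A ≤ f.range := by
    rintro _ ⟨x, hx, rfl⟩
    exact ⟨⟨x, hx⟩, rfl⟩
  have hA4 := card_le hr H f A hAf hA
  -- it is too large
  let B : Subgroup (S ⧸ N) := (P ⊔ Q).map π
  have hB : 16 ≤ Nat.card B := by
    let ν : P × Q →* S ⧸ N := π.comp μ
    have hνr : ν.range = B := by rw [MonoidHom.range_comp, hμ]
    have hνk : ν.ker ≤ (frattini P).prod (frattini Q) := fun x hx => by
      rw [MonoidHom.mem_ker] at hx
      exact mem_prod.2 (hker x.1 x.2 ((QuotientGroup.eq_one_iff _).1 hx))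
    rw [← hνr, ← index_ker]
    refine le_trans ?_ (Nat.le_of_dvd (index_ne_zero_of_finite.bot_lt) (index_dvd_of_le hνk))
    rw [index_prod, ← index_eq_card (H := frattini P) |>.symm.trans rfl]
    calc 16 = 4 * 4 := rfl
      _ ≤ Nat.card (P ⧸ frattini P) * Nat.card (Q ⧸ frattini Q) :=
        Nat.mul_le_mul (card_dvd_four_le hP2 hP) (card_dvd_four_le hQ2 hQ)
      _ = _ := rfl
  have hlt : B < A := by
    refine lt_of_le_of_ne (map_mono le_sup_left) fun he => hcn ?_
    have h1 : π c ∈ B := he ▸ mem_map_of_mem π (mem_sup_right (mem_zpowers c) : c ∈ H)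
    have h3 : c ∈ B.comap π := h1
    rw [comap_map_eq, QuotientGroup.ker_mk'] at h3
    have hN : N ≤ P ⊔ Q := sup_le_sup (map_subtype_le _) (map_subtype_le _)
    rwa [sup_eq_left.2 hN] at h3
  have := Set.ncard_lt_ncard (SetLike.coe_ssubset_coe.2 hlt)
  rw [← Nat.card_coe_set_eq, ← Nat.card_coe_set_eq] at this
  have h5 : Nat.card B < Nat.card A := this
  omega

end Cfsg.Agent.Lib.SectionalRank
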